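import Cfsg.Agent.H750.F43.UTwo
import Cfsg.Agent.H69.F43.Num

/-!
# The transvections of `Sp₆(3)` on `V₁₄` (S2464, F₄(3), side (TAU); helper296)

`τ = uu (mt 1)`, `τ⁻¹ = uu (mt 2)`.

* `conj_tv`, `tau_conj` : every transvection, and every `l ≠ 1` of odd order with `dim C(l) ≥ 9`, is conjugate to `τ` or
  `τ⁻¹`;
* `mem_fix_tau`, `finrank_fix_tau` : the fixed points of `τ^±1`;
* `perp_fix_tau` : their orthogonal space for an invariant form is `⟨e₁, e₈, e₉, e₁₀, e₁₃⟩`;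
* `fix_conj`, `perp_conj` : conjugates.
-/

set_option autoImplicit false

namespace Cfsg.Agent.H296.F43

open Cfsg Matrix Module Cfsg.Agent.H700.F43 Cfsg.Agent.H675.F43 Cfsg.Agent.H69.F43 Cfsg.Agent.H750.F43
  Cfsg.Agent.ClassicalGeometry.SympBasic

theorem tv_one : transv (eb (Sum.inl 0)) 1 = uu (mt 1) (mt_sym 1) := by
  apply ext_mv
  intro x
  funext i
  rcases i with i | i
  · rw [uu_inl, coe_transv, sympTransvection_mulVec, sympForm_single_inl_right]
    fin_cases i <;> simp [H69.F43.mt, dg]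
  · rw [uu_inr, coe_transv, sympTransvection_mulVec, sympForm_single_inl_right]
    simp

theorem tv_two : transv (eb (Sum.inl 0)) 2 = uu (mt 2) (mt_sym 2) := by
  apply ext_mv
  intro x
  funext i
  rcases i with i | i
  · rw [uu_inl, coe_transv, sympTransvection_mulVec, sympForm_single_inl_right]
    fin_cases i <;> simp [H69.F43.mt, dg]
  · rw [uu_inr, coe_transv, sympTransvection_mulVec, sympForm_single_inl_right]
    simp

theorem F3_cases : ∀ c : F3, c ≠ 0 → c = 1 ∨ c = 2 := by decide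

theorem tv_eq {c : F3} (hc : c ≠ 0) :
    transv (eb (Sum.inl 0)) c = uu (mt 1) (mt_sym 1) ∨ transv (eb (Sum.inl 0)) c = uu (mt 2) (mt_sym 2) := by
  rcases F3_cases c hc with rfl | rfl
  · exact Or.inl tv_one
  · exact Or.inr tv_two

/-- transvections are conjugate to `τ` or `τ⁻¹` -/
theorem conj_tv {v : V6} (hv : v ≠ 0) {c : F3} (hc : c ≠ 0) :
    ∃ h : Sp, h * transv v c * h⁻¹ = uu (mt 1) (mt_sym 1) ∨ h * transv v c * h⁻¹ = uu (mt 2) (mt_sym 2) := by
  obtain ⟨A, hA⟩ := sp_transitive hv (w := eb (Sum.inl 0)) (by decide)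
  refine ⟨A, ?_⟩
  rw [conj_transv, hA]
  exact tv_eq hc

/-- elements `≠ 1` of odd order with `dim C(l) > 8` are conjugate to `τ` or `τ⁻¹` -/
theorem tau_conj {l : Sp} (h1 : l ≠ 1) (hu : Odd (orderOf l))
    (h8 : 8 < finrank F3 (LinearMap.ker (act l - 1))) :
    ∃ h : Sp, h * l * h⁻¹ = uu (mt 1) (mt_sym 1) ∨ h * l * h⁻¹ = uu (mt 2) (mt_sym 2) := by
  obtain ⟨-, h | ⟨h, c, hc, e⟩⟩ := fix_le (fun A => ⟨act A, rel_act A⟩) h1 hu (rel_act l)
  · omega
  · refine ⟨h, ?_⟩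
    rw [e]
    exact tv_eq hc

theorem mem_fix_one (w : V14) : act (uu (mt 1) (mt_sym 1)) w = w ↔
    w 0 = 0 ∧ w 2 = 0 ∧ w 3 = 0 ∧ w 4 = 0 ∧ w 7 = 0 := by
  rw [act_uu]
  constructor
  · intro h
    have h1 := congrFun h 1
    have h8 := congrFun h 8
    have h9 := congrFun h 9
    have h10 := congrFun h 10
    have h13 := congrFun h 13
    simp [Xuu, H69.F43.mt, dg] at h1 h8 h9 h10 h13
    simp [h1] at *
    simp [h8, h9, h10] at *
    exact h13
  · rintro ⟨h0, h2, h3, h4, h7⟩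
    ext k
    fin_cases k <;> simp [Xuu, H69.F43.mt, dg, h0, h2, h3, h4, h7]

theorem mem_fix_two (w : V14) : act (uu (mt 2) (mt_sym 2)) w = w ↔
    w 0 = 0 ∧ w 2 = 0 ∧ w 3 = 0 ∧ w 4 = 0 ∧ w 7 = 0 := by
  have h2 : (2 : F3) ≠ 0 := by decide
  rw [act_uu]
  constructor
  · intro h
    have h1 := congrFun h 1
    have h8 := congrFun h 8
    have h9 := congrFun h 9
    have h10 := congrFun h 10
    have h13 := congrFun h 13
    simp [Xuu, H69.F43.mt, dg, h2] at h1 h8 h9 h10 h13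
    simp [h1] at *
    simp [h8, h9, h10] at *
    exact h13
  · rintro ⟨h0, h2, h3, h4, h7⟩
    ext k
    fin_cases k <;> simp [Xuu, H69.F43.mt, dg, h0, h2, h3, h4, h7]

/-- the coordinates `0, 2, 3, 4, 7` -/
def pr5 : V14 →ₗ[F3] (Fin 5 → F3) where
  toFun w := ![w 0, w 2, w 3, w 4, w 7]
  map_add' v w := by ext k; fin_cases k <;> simp
  map_smul' c v := by ext k; fin_cases k <;> simp

theorem pr5_eq_zero (w : V14) : pr5 w = 0 ↔ w 0 = 0 ∧ w 2 = 0 ∧ w 3 = 0 ∧ w 4 = 0 ∧ w 7 = 0 := by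
  constructor
  · intro h
    exact ⟨congrFun h 0, congrFun h 1, congrFun h 2, congrFun h 3, congrFun h 4⟩
  · rintro ⟨h0, h2, h3, h4, h7⟩
    ext k
    fin_cases k <;> simp [pr5, h0, h2, h3, h4, h7]

theorem pr5_surj : Function.Surjective pr5 := by
  intro y
  refine ⟨![y 0, 0, y 1, y 2, y 3, 0, 0, y 4, 0, 0, 0, 0, 0, 0], ?_⟩
  ext k
  fin_cases k <;> simp [pr5]

/-- `l` is `τ` or `τ⁻¹` -/
def IsTau (l : Sp) : Prop := l = uu (mt 1) (mt_sym 1) ∨ l = uu (mt 2) (mt_sym 2)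

theorem mem_fix_tau {l : Sp} (h : IsTau l) (w : V14) : act l w = w ↔
    w 0 = 0 ∧ w 2 = 0 ∧ w 3 = 0 ∧ w 4 = 0 ∧ w 7 = 0 := by
  rcases h with rfl | rfl
  · exact mem_fix_one w
  · exact mem_fix_two w

theorem ker_tau {l : Sp} (h : IsTau l) : LinearMap.ker (act l - 1) = LinearMap.ker pr5 := by
  ext w
  rw [LinearMap.mem_ker, LinearMap.mem_ker, LinearMap.sub_apply, sub_eq_zero, pr5_eq_zero]
  exact mem_fix_tau h w

theorem finrank_fix_tau {l : Sp} (h : IsTau l) : finrank F3 (LinearMap.ker (act l - 1)) = 9 := by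
  rw [ker_tau h]
  have h1 := LinearMap.finrank_range_add_finrank_ker pr5
  rw [LinearMap.range_eq_top.2 pr5_surj, finrank_top] at h1
  simp at h1
  omega

/-- the coordinates `0, 2, 3, 4, 5, 6, 7, 11, 12` vanish: the span of `e₁, e₈, e₉, e₁₀, e₁₃` -/
def IsX (u : V14) : Prop :=
  u 0 = 0 ∧ u 2 = 0 ∧ u 3 = 0 ∧ u 4 = 0 ∧ u 5 = 0 ∧ u 6 = 0 ∧ u 7 = 0 ∧ u 11 = 0 ∧ u 12 = 0

/-- `u` is in the space iff it is `τ w - w` -/
theorem isX_iff_one (u : V14) : IsX u ↔ ∃ w : V14, u = act (uu (mt 1) (mt_sym 1)) w - w := by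
  rw [act_uu]
  constructor
  · rintro ⟨h0, h2, h3, h4, h5, h6, h7, h11, h12⟩
    refine ⟨![u 1, 0, u 9, u 8, -u 10, 0, 0, u 13, 0, 0, 0, 0, 0, 0], ?_⟩
    ext k
    fin_cases k <;> simp [Xuu, H69.F43.mt, dg, h0, h2, h3, h4, h5, h6, h7, h11, h12]
  · rintro ⟨w, rfl⟩
    simp [IsX, Xuu, H69.F43.mt, dg]

theorem isX_iff_two (u : V14) : IsX u ↔ ∃ w : V14, u = act (uu (mt 2) (mt_sym 2)) w - w := by
  have h22 : (2 : F3) * 2 = 1 := by decide
  rw [act_uu]
  constructor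
  · rintro ⟨h0, h2, h3, h4, h5, h6, h7, h11, h12⟩
    refine ⟨![2 * u 1, 0, 2 * u 9, 2 * u 8, -(2 * u 10), 0, 0, 2 * u 13, 0, 0, 0, 0, 0, 0], ?_⟩
    ext k
    fin_cases k <;> simp [Xuu, H69.F43.mt, dg, h0, h2, h3, h4, h5, h6, h7, h11, h12, ← mul_assoc, h22]
  · rintro ⟨w, rfl⟩
    simp [IsX, Xuu, H69.F43.mt, dg]

theorem isX_iff {l : Sp} (h : IsTau l) (u : V14) : IsX u ↔ ∃ w : V14, u = act l w - w := by
  rcases h with rfl | rfl
  · exact isX_iff_one u
  · exact isX_iff_two u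

/-- the coordinates of the orthogonal space -/
def pr9 : V14 →ₗ[F3] (Fin 9 → F3) where
  toFun w := ![w 0, w 2, w 3, w 4, w 5, w 6, w 7, w 11, w 12]
  map_add' v w := by ext k; fin_cases k <;> simp
  map_smul' c v := by ext k; fin_cases k <;> simp

theorem mem_ker_pr9 (w : V14) : w ∈ LinearMap.ker pr9 ↔ IsX w := by
  rw [LinearMap.mem_ker]
  constructor
  · intro h
    exact ⟨congrFun h 0, congrFun h 1, congrFun h 2, congrFun h 3, congrFun h 4, congrFun h 5, congrFun h 6,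
      congrFun h 7, congrFun h 8⟩
  · rintro ⟨h0, h2, h3, h4, h5, h6, h7, h11, h12⟩
    ext k
    fin_cases k <;> simp [pr9, h0, h2, h3, h4, h5, h6, h7, h11, h12]

theorem pr9_surj : Function.Surjective pr9 := by
  intro y
  refine ⟨![y 0, 0, y 1, y 2, y 3, y 4, y 5, y 6, 0, 0, 0, y 7, y 8, 0], ?_⟩
  ext k
  fin_cases k <;> simp [pr9]

theorem finrank_ker_pr9 : finrank F3 (LinearMap.ker pr9) = 5 := by
  have h1 := LinearMap.finrank_range_add_finrank_ker pr9
  rw [LinearMap.range_eq_top.2 pr9_surj, finrank_top] at h1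
  simp at h1
  omega

/-- **The orthogonal space of `C(τ)`** for a nondegenerate invariant form is `⟨e₁, e₈, e₉, e₁₀, e₁₃⟩`. -/
theorem perp_fix_tau (B : LinearMap.BilinForm F3 V14) (hB : B.Nondegenerate)
    (hi : ∀ (A : Sp) (u v : V14), B (act A u) (act A v) = B u v) {l : Sp} (h : IsTau l) (u : V14) :
    (∀ w : V14, act l w = w → B w u = 0) ↔ IsX u := by
  have hle : LinearMap.ker pr9 ≤ B.orthogonal (LinearMap.ker (act l - 1)) := by
    intro x hx
    rw [mem_ker_pr9, isX_iff h] at hx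
    obtain ⟨y, rfl⟩ := hx
    rw [LinearMap.BilinForm.mem_orthogonal_iff]
    intro w hw
    rw [LinearMap.mem_ker, LinearMap.sub_apply, sub_eq_zero] at hw
    have hw' : act l w = w := hw
    change B w (act l y - y) = 0
    have h1 := hi l w y
    rw [hw'] at h1
    rw [map_sub, h1, sub_self]
  have heq : LinearMap.ker pr9 = B.orthogonal (LinearMap.ker (act l - 1)) := by
    refine Submodule.eq_of_le_of_finrank_eq hle ?_
    rw [finrank_ker_pr9, LinearMap.BilinForm.finrank_orthogonal hB, finrank_fix_tau h]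
    simp
  rw [← mem_ker_pr9, heq, LinearMap.BilinForm.mem_orthogonal_iff]
  constructor
  · intro h1 w hw
    rw [LinearMap.mem_ker, LinearMap.sub_apply, sub_eq_zero] at hw
    exact h1 w hw
  · intro h1 w hw
    refine h1 w ?_
    rw [LinearMap.mem_ker, LinearMap.sub_apply, sub_eq_zero]
    exact hw

/-- fixed points of a conjugate -/
theorem fix_conj {h l k : Sp} (e : h * l * h⁻¹ = k) (w : V14) : act l w = w ↔ act k (act h w) = act h w := by
  have h1 : k * h = h * l := by rw [← e]; group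
  have h2 : act k (act h w) = act h (act l w) := by
    change (act k * act h) w = (act h * act l) w
    rw [← map_mul, ← map_mul, h1]
  rw [h2]
  constructor
  · intro h3
    rw [h3]
  · intro h3
    have h4 := congrArg (act h⁻¹) h3
    have h5 : ∀ v : V14, act h⁻¹ (act h v) = v := fun v => LinearMap.congr_fun (act_inv_mul h) v
    rwa [h5, h5] at h4

/-- **The orthogonal space of `C(l)`**, `l` conjugate to `τ^±1` by `h`: the vectors `u` with `h u` in
`⟨e₁, e₈, e₉, e₁₀, e₁₃⟩`. -/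
theorem perp_conj (B : LinearMap.BilinForm F3 V14) (hB : B.Nondegenerate)
    (hi : ∀ (A : Sp) (u v : V14), B (act A u) (act A v) = B u v) {h l : Sp} (e : IsTau (h * l * h⁻¹)) (u : V14) :
    (∀ w : V14, act l w = w → B w u = 0) ↔ IsX (act h u) := by
  rw [← perp_fix_tau B hB hi e]
  have h5 : ∀ v : V14, act h (act h⁻¹ v) = v := fun v => LinearMap.congr_fun (act_mul_inv h) v
  constructor
  · intro h1 w hw
    have h2 := (fix_conj (h := h) (l := l) rfl (act h⁻¹ w)).2 (by rw [h5]; exact hw)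
    have h3 := h1 _ h2
    rw [← hi h, h5] at h3
    exact h3
  · intro h1 w hw
    rw [← hi h]
    exact h1 _ ((fix_conj rfl w).1 hw)

end Cfsg.Agent.H296.F43
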