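import Cfsg.Agent.H700.F43.Mod
import Cfsg.Agent.ClassicalGeometry.SympBasic

/-!
# The action of the transvections of `Sp₆(3)` on `V₁₄` (S2464, F₄(3), box (TV); helper296)

* `Xtv v c` : the linear map of `V₁₄` given by the transvection `x ↦ x + c f(x, v) v`; the entries are quadratic in `v`
  (`a i = v (inl i)`, `b i = v (inr i)`) and of degree one in `c`;
* `rel_tv` : `Rel (transv v c) (Xtv v c)`.
-/

set_option autoImplicit false

namespace Cfsg.Agent.H296.F43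

open Cfsg Matrix Cfsg.Agent.H700.F43 Cfsg.Agent.ClassicalGeometry.SympBasic

/-- the coordinates of the image of `w` under the transvection of the vector `(a, b)` and the scalar `c` -/
def tvc (a b : Fin 3 → F3) (c : F3) (w : V14) : V14 := ![
    w 0 + (c * a 0 * b 0 + c * a 1 * b 1 + c * a 2 * b 2) * w 0 + (-c * b 0 * b 0) * w 1 + (-c * b 1 * b 1) * w
    2 + (-c * b 2 * b 2) * w 3 + (c * b 1 * b 2) * w 4 + (c * b 0 * b 2) * w 5 + (c * b 0 * b 1) * w 6,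
    (c * a 0 * a 0) * w 0 + w 1 + (-c * a 0 * b 0 + c * a 1 * b 1 + c * a 2 * b 2) * w 1 + (c * a 0 * b 2) * w 5
    + (c * a 0 * b 1) * w 6 + (-c * b 2 * b 2) * w 8 + (-c * b 1 * b 1) * w 9 + (-c * b 1 * b 2) * w 10,
    (c * a 1 * a 1) * w 0 + w 2 + (c * a 0 * b 0 - c * a 1 * b 1 + c * a 2 * b 2) * w 2 + (c * a 1 * b 2) * w 4
    + (c * a 1 * b 0) * w 6 + (-c * b 2 * b 2) * w 7 + (-c * b 0 * b 0) * w 9 + (-c * b 0 * b 2) * w 11,
    (c * a 2 * a 2) * w 0 + w 3 + (c * a 0 * b 0 + c * a 1 * b 1 - c * a 2 * b 2) * w 3 + (c * a 2 * b 1) * w 4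
    + (c * a 2 * b 0) * w 5 + (-c * b 1 * b 1) * w 7 + (-c * b 0 * b 0) * w 8 + (-c * b 0 * b 1) * w 12,
    (-2 * c * a 1 * a 2) * w 0 + (2 * c * a 2 * b 1) * w 2 + (2 * c * a 1 * b 2) * w 3 + w 4 + (c * a 0 * b 0) *
    w 4 + (-c * a 1 * b 0) * w 5 + (-c * a 2 * b 0) * w 6 + (-2 * c * b 1 * b 2) * w 7 + (c * b 0 * b 0) * w 10
    + (-c * b 0 * b 1) * w 11 + (-c * b 0 * b 2) * w 12,
    (-2 * c * a 0 * a 2) * w 0 + (2 * c * a 2 * b 0) * w 1 + (2 * c * a 0 * b 2) * w 3 + (-c * a 0 * b 1) * w 4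
    + w 5 + (c * a 1 * b 1) * w 5 + (-c * a 2 * b 1) * w 6 + (-2 * c * b 0 * b 2) * w 8 + (-c * b 0 * b 1) * w
    10 + (c * b 1 * b 1) * w 11 + (-c * b 1 * b 2) * w 12,
    (-2 * c * a 0 * a 1) * w 0 + (2 * c * a 1 * b 0) * w 1 + (2 * c * a 0 * b 1) * w 2 + (-c * a 0 * b 2) * w 4
    + (-c * a 1 * b 2) * w 5 + w 6 + (c * a 2 * b 2) * w 6 + (-2 * c * b 0 * b 1) * w 9 + (-c * b 0 * b 2) * w
    10 + (-c * b 1 * b 2) * w 11 + (c * b 2 * b 2) * w 12,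
    (c * a 2 * a 2) * w 2 + (c * a 1 * a 1) * w 3 + (c * a 1 * a 2) * w 4 + w 7 + (c * a 0 * b 0 - c * a 1 * b 1
    - c * a 2 * b 2) * w 7 + (-c * a 2 * b 0) * w 11 + (-c * a 1 * b 0) * w 12 + (-c * b 0 * b 0) * w 13,
    (c * a 2 * a 2) * w 1 + (c * a 0 * a 0) * w 3 + (c * a 0 * a 2) * w 5 + w 8 + (-c * a 0 * b 0 + c * a 1 * b
    1 - c * a 2 * b 2) * w 8 + (-c * a 2 * b 1) * w 10 + (-c * a 0 * b 1) * w 12 + (-c * b 1 * b 1) * w 13,
    (c * a 1 * a 1) * w 1 + (c * a 0 * a 0) * w 2 + (c * a 0 * a 1) * w 6 + w 9 + (-c * a 0 * b 0 - c * a 1 * b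
    1 + c * a 2 * b 2) * w 9 + (-c * a 1 * b 2) * w 10 + (-c * a 0 * b 2) * w 11 + (-c * b 2 * b 2) * w 13,
    (2 * c * a 1 * a 2) * w 1 + (-c * a 0 * a 0) * w 4 + (c * a 0 * a 1) * w 5 + (c * a 0 * a 2) * w 6 + (-2 * c
    * a 1 * b 2) * w 8 + (-2 * c * a 2 * b 1) * w 9 + w 10 + (-c * a 0 * b 0) * w 10 + (c * a 0 * b 1) * w 11 +
    (c * a 0 * b 2) * w 12 + (2 * c * b 1 * b 2) * w 13,
    (2 * c * a 0 * a 2) * w 2 + (c * a 0 * a 1) * w 4 + (-c * a 1 * a 1) * w 5 + (c * a 1 * a 2) * w 6 + (-2 * c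
    * a 0 * b 2) * w 7 + (-2 * c * a 2 * b 0) * w 9 + (c * a 1 * b 0) * w 10 + w 11 + (-c * a 1 * b 1) * w 11 +
    (c * a 1 * b 2) * w 12 + (2 * c * b 0 * b 2) * w 13,
    (2 * c * a 0 * a 1) * w 3 + (c * a 0 * a 2) * w 4 + (c * a 1 * a 2) * w 5 + (-c * a 2 * a 2) * w 6 + (-2 * c
    * a 0 * b 1) * w 7 + (-2 * c * a 1 * b 0) * w 8 + (c * a 2 * b 0) * w 10 + (c * a 2 * b 1) * w 11 + w 12 +
    (-c * a 2 * b 2) * w 12 + (2 * c * b 0 * b 1) * w 13,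
    (c * a 0 * a 0) * w 7 + (c * a 1 * a 1) * w 8 + (c * a 2 * a 2) * w 9 + (-c * a 1 * a 2) * w 10 + (-c * a 0
    * a 2) * w 11 + (-c * a 0 * a 1) * w 12 + w 13 + (-c * a 0 * b 0 - c * a 1 * b 1 - c * a 2 * b 2) * w 13]

set_option maxHeartbeats 4000000 in
/-- the action of `transv v c` on `V₁₄` -/
def Xtv (v : V6) (c : F3) : V14 →ₗ[F3] V14 where
  toFun w := tvc (fun i => v (Sum.inl i)) (fun i => v (Sum.inr i)) c w
  map_add' v w := by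
    ext k
    fin_cases k <;> simp [tvc] <;> ring
  map_smul' c v := by
    ext k
    fin_cases k <;> simp [tvc] <;> ring

theorem tv_inl (v : V6) (c : F3) (x : V6) (i : Fin 3) :
    ((transv v c).1.mulVec x) (Sum.inl i) = x (Sum.inl i) +
      c * (x (Sum.inr 0) * v (Sum.inl 0) - x (Sum.inl 0) * v (Sum.inr 0) +
        (x (Sum.inr 1) * v (Sum.inl 1) - x (Sum.inl 1) * v (Sum.inr 1)) +
        (x (Sum.inr 2) * v (Sum.inl 2) - x (Sum.inl 2) * v (Sum.inr 2))) * v (Sum.inl i) := by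
  rw [coe_transv, sympTransvection_mulVec, sympForm_eq_sum, Fin.sum_univ_three]
  rfl

theorem tv_inr (v : V6) (c : F3) (x : V6) (i : Fin 3) :
    ((transv v c).1.mulVec x) (Sum.inr i) = x (Sum.inr i) +
      c * (x (Sum.inr 0) * v (Sum.inl 0) - x (Sum.inl 0) * v (Sum.inr 0) +
        (x (Sum.inr 1) * v (Sum.inl 1) - x (Sum.inl 1) * v (Sum.inr 1)) +
        (x (Sum.inr 2) * v (Sum.inl 2) - x (Sum.inl 2) * v (Sum.inr 2))) * v (Sum.inr i) := by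
  rw [coe_transv, sympTransvection_mulVec, sympForm_eq_sum, Fin.sum_univ_three]
  rfl

set_option maxHeartbeats 8000000 in
theorem rel_tv (v : V6) (c : F3) : Rel (transv v c) (Xtv v c) := by
  intro x y z
  ext k
  fin_cases k <;>
  · simp only [Xtv, tvc, ww, cX, cY, d3, tv_inl, tv_inr, LinearMap.coe_mk, AddHom.coe_mk]
    simp
    try ring

end Cfsg.Agent.H296.F43
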